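import Groth.Agent.CommAlgDim.CM
import Groth.Agent.CMFlatLib.RegFlat
import Mathlib

/-!
# Local homomorphisms between regular local rings
-/

set_option autoImplicit false
set_option linter.style.haveILetI false
universe u

open IsLocalRing RingTheory.Sequence

namespace RegLocHomLib

variable (A B : Type u) [CommRing A] [IsLocalRing A] [IsNoetherianRing A] [CommRing B] [IsLocalRing B]
  [IsNoetherianRing B] [Algebra A B] [IsLocalHom (algebraMap A B)]
  [IsLocalRing (B ⧸ (maximalIdeal A).map (algebraMap A B))]

theorem exists_nat_dim (R : Type u) [CommRing R] [IsLocalRing R] [IsNoetherianRing R] :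
    ∃ n : ℕ, ringKrullDim R = n ∧ n ≤ (maximalIdeal R).spanFinrank := by
  obtain ⟨k, hk⟩ := ENat.ne_top_iff_exists.1 (Ideal.height_ne_top (I := maximalIdeal R) (maximalIdeal.isMaximal R).ne_top)
  have hd : ringKrullDim R = k := by rw [← maximalIdeal_height_eq_ringKrullDim, ← hk]; rfl
  refine ⟨k, hd, ?_⟩
  have := ringKrullDim_le_spanFinrank_maximalIdeal R
  rw [hd] at this
  exact_mod_cast this

theorem regular_iff_nat (R : Type u) [CommRing R] [IsLocalRing R] [IsNoetherianRing R] {n : ℕ}
    (hn : ringKrullDim R = n) : IsRegularLocalRing R ↔ (maximalIdeal R).spanFinrank = n := by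
  rw [isRegularLocalRing_iff, hn]
  exact_mod_cast Iff.rfl

theorem dim_le : ringKrullDim B ≤ ringKrullDim A + ringKrullDim (B ⧸ (maximalIdeal A).map (algebraMap A B)) := by
  have hP : (maximalIdeal B).LiesOver (maximalIdeal A) := ⟨(maximalIdeal_comap (algebraMap A B)).symm⟩
  have h := Ideal.height_le_height_add_of_liesOver (maximalIdeal A) (maximalIdeal B)
  rw [IsLocalRing.map_maximalIdeal_of_surjective _ Ideal.Quotient.mk_surjective] at h
  rw [← maximalIdeal_height_eq_ringKrullDim, ← maximalIdeal_height_eq_ringKrullDim, ← maximalIdeal_height_eq_ringKrullDim]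
  exact_mod_cast h

theorem dim_eq_of_flat [Module.Flat A B] :
    ringKrullDim B = ringKrullDim A + ringKrullDim (B ⧸ (maximalIdeal A).map (algebraMap A B)) := by
  have hP : (maximalIdeal B).LiesOver (maximalIdeal A) := ⟨(maximalIdeal_comap (algebraMap A B)).symm⟩
  have : Algebra.HasGoingDown A B := Algebra.HasGoingDown.of_flat
  have h := Ideal.height_eq_height_add_of_liesOver_of_hasGoingDown (maximalIdeal A) (maximalIdeal B)
  rw [IsLocalRing.map_maximalIdeal_of_surjective _ Ideal.Quotient.mk_surjective] at h
  rw [← maximalIdeal_height_eq_ringKrullDim, ← maximalIdeal_height_eq_ringKrullDim, ← maximalIdeal_height_eq_ringKrullDim, h]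
  rfl

theorem spanFinrank_le : (maximalIdeal B).spanFinrank ≤
    (maximalIdeal A).spanFinrank + (maximalIdeal (B ⧸ (maximalIdeal A).map (algebraMap A B))).spanFinrank := by
  classical
  let I := (maximalIdeal A).map (algebraMap A B)
  let F := B ⧸ I
  have hmax : (maximalIdeal B).map (Ideal.Quotient.mk I) = maximalIdeal F :=
    IsLocalRing.map_maximalIdeal_of_surjective _ Ideal.Quotient.mk_surjective
  have hfgA : (maximalIdeal A).FG := IsNoetherian.noetherian _
  have hfgF : (maximalIdeal F).FG := IsNoetherian.noetherian _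
  choose l hl using fun y : F => Ideal.Quotient.mk_surjective (I := I) y
  let GA := (maximalIdeal A).generators
  let GF := (maximalIdeal F).generators
  have hGA : Ideal.span GA = maximalIdeal A := Submodule.span_generators _
  have hGF : Ideal.span GF = maximalIdeal F := Submodule.span_generators _
  have hfA := Submodule.FG.finite_generators hfgA
  have hfF := Submodule.FG.finite_generators hfgF
  have h1 : maximalIdeal B = Ideal.span (algebraMap A B '' GA ∪ l '' GF) := by
    refine le_antisymm (fun b hb => ?_) ?_
    · rw [Ideal.span_union, ← Ideal.map_span, hGA]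
      have h2 := Ideal.mem_map_of_mem (Ideal.Quotient.mk I) hb
      rw [hmax, ← hGF, show GF = Ideal.Quotient.mk I '' (l '' GF) by
        rw [Set.image_image]; simp [hl], ← Ideal.map_span, Ideal.mem_quotient_iff_mem_sup, sup_comm] at h2
      exact h2
    · rw [Ideal.span_le, Set.union_subset_iff]
      refine ⟨?_, ?_⟩
      · rintro _ ⟨a, ha, rfl⟩
        exact map_nonunit (algebraMap A B) a (hGA ▸ Ideal.subset_span ha)
      · rintro _ ⟨y, hy, rfl⟩
        have : y ∈ maximalIdeal F := hGF ▸ Ideal.subset_span hy
        intro hu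
        exact this (hl y ▸ hu.map (Ideal.Quotient.mk I))
  rw [h1]
  refine (Submodule.spanFinrank_span_le_ncard_of_finite ((hfA.image _).union (hfF.image _))).trans ?_
  refine (Set.ncard_union_le _ _).trans (Nat.add_le_add ?_ ?_)
  · exact (Set.ncard_image_le hfA).trans (Submodule.FG.generators_ncard hfgA).le
  · exact (Set.ncard_image_le hfF).trans (Submodule.FG.generators_ncard hfgF).le

omit [IsLocalRing (B ⧸ (maximalIdeal A).map (algebraMap A B))] in
/-- Miracle flatness in the regular case. -/
theorem flat_of_dim [IsRegularLocalRing A] [IsRegularLocalRing B]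
    (hdim : ringKrullDim B = ringKrullDim A + ringKrullDim (B ⧸ (maximalIdeal A).map (algebraMap A B))) :
    Module.Flat A B := by
  obtain ⟨ls, hls, hd⟩ := CommAlgDim.exists_isRegular_iff (CommAlgDim.isCM_of_isRegularLocalRing A) le_rfl |>.2 (by
    letI := Ideal.Quotient.field (maximalIdeal A)
    rw [ringKrullDim_eq_zero_of_field, zero_add, IsRegularLocalRing.spanFinrank_maximalIdeal])
  have hlen : ringKrullDim A = ls.length := by
    rw [← ringKrullDim_add_length_eq_ringKrullDim_of_isRegular ls hls, ringKrullDim_eq_of_ringEquiv (Ideal.quotEquivOfEq hd)]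
    letI := Ideal.Quotient.field (maximalIdeal A)
    rw [ringKrullDim_eq_zero_of_field, zero_add]
  refine CMFlatLib.flat_of_regular_seq _ A B ls rfl hls.toIsWeaklyRegular ?_ hd
  refine (CommAlgDim.isRegular_of_dim (CommAlgDim.isCM_of_isRegularLocalRing B) (fun r hr => ?_) ?_).toIsWeaklyRegular
  · obtain ⟨a, ha, rfl⟩ := List.mem_map.1 hr
    exact map_nonunit (algebraMap A B) a (hd ▸ Ideal.subset_span ha)
  · rw [List.length_map, ← Ideal.map_ofList, ringKrullDim_eq_of_ringEquiv (Ideal.quotEquivOfEq (congrArg (Ideal.map (algebraMap A B)) hd)),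
      hdim, hlen, add_comm]

end RegLocHomLib
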